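import Cfsg.Agent.HSRecog.Cert7.RuleData

/-! Generated by tools/dcoset/emit.py: step words. -/

set_option Elab.async false

namespace Cfsg.Agent.HSRecog.Cert7

open Cfsg.Agent.DCoset Cfsg.Agent.CosetCert

def argWS_1 : Store := (.node 14 (.node 7 (.node 3 (.node 1 (.leaf 0x1) (.node 2 (.leaf 0x20001) (.leaf 0x40001))) (.node 5 (.node 4 (.leaf 0x60001) (.leaf 0x20001)) (.node 6 (.leaf 0x0) (.leaf 0x20001)))) (.node 10 (.node 8 (.leaf 0x0) (.node 9 (.leaf 0x1) (.leaf 0x0))) (.node 12 (.node 11 (.leaf 0x40001) (.leaf 0x0)) (.node 13 (.leaf 0x20001) (.leaf 0x0))))) (.node 21 (.node 17 (.node 15 (.leaf 0x1) (.node 16 (.leaf 0x0) (.leaf 0x1))) (.node 19 (.node 18 (.leaf 0x0) (.leaf 0x60002)) (.node 20 (.leaf 0x0) (.leaf 0x20001)))) (.node 25 (.node 23 (.node 22 (.leaf 0x0) (.leaf 0x2060002)) (.node 24 (.leaf 0x0) (.leaf 0x1))) (.node 27 (.node 26 (.leaf 0x0) (.leaf 0x40002)) (.node 28 (.leaf 0x0) (.leaf 0x40002))))))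

def argWS_2 : Store := (.node 43 (.node 36 (.node 32 (.node 30 (.leaf 0x0) (.node 31 (.leaf 0x4020003) (.leaf 0x0))) (.node 34 (.node 33 (.leaf 0x60001) (.leaf 0x0)) (.node 35 (.leaf 0x10604020004) (.leaf 0x0)))) (.node 39 (.node 37 (.leaf 0x20001) (.node 38 (.leaf 0x0) (.leaf 0x2040002))) (.node 41 (.node 40 (.leaf 0x0) (.leaf 0x40001)) (.node 42 (.leaf 0x0) (.leaf 0x4020002))))) (.node 50 (.node 46 (.node 44 (.leaf 0x0) (.node 45 (.leaf 0x4020002) (.leaf 0x0))) (.node 48 (.node 47 (.leaf 0x2040002) (.leaf 0x0)) (.node 49 (.leaf 0x60002) (.leaf 0x0)))) (.node 54 (.node 52 (.node 51 (.leaf 0x6020003) (.leaf 0x0)) (.node 53 (.leaf 0x60001) (.leaf 0x0))) (.node 56 (.node 55 (.leaf 0x10001) (.leaf 0x0)) (.node 57 (.leaf 0x10001) (.leaf 0x0))))))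

def argWS_3 : Store := (.node 29 argWS_1 argWS_2)

def argWS_4 : Store := (.node 72 (.node 65 (.node 61 (.node 59 (.leaf 0x1040002) (.node 60 (.leaf 0x0) (.leaf 0x60002))) (.node 63 (.node 62 (.leaf 0x0) (.leaf 0x6020003)) (.node 64 (.leaf 0x0) (.leaf 0x10604020004)))) (.node 68 (.node 66 (.leaf 0x0) (.node 67 (.leaf 0x1050306030005) (.leaf 0x0))) (.node 70 (.node 69 (.leaf 0x2040002) (.leaf 0x0)) (.node 71 (.leaf 0x303040003) (.leaf 0x0))))) (.node 79 (.node 75 (.node 73 (.leaf 0x6020003) (.node 74 (.leaf 0x0) (.leaf 0x200020006020402060303000b))) (.node 77 (.node 76 (.leaf 0x0) (.leaf 0x303040003)) (.node 78 (.leaf 0x0) (.leaf 0x303010306030006)))) (.node 83 (.node 81 (.node 80 (.leaf 0x0) (.leaf 0x303010306030006)) (.node 82 (.leaf 0x0) (.leaf 0x60000020002060202060304000c))) (.node 85 (.node 84 (.leaf 0x0) (.leaf 0x200020006020402060303000b)) (.node 86 (.leaf 0x0) (.leaf 0x40300000306040007))))))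

def argWS_5 : Store := (.node 101 (.node 94 (.node 90 (.node 88 (.leaf 0x0) (.node 89 (.leaf 0x4020002) (.leaf 0x0))) (.node 92 (.node 91 (.leaf 0x206050003) (.leaf 0x0)) (.node 93 (.leaf 0x1050306030005) (.leaf 0x0)))) (.node 97 (.node 95 (.leaf 0x1020103050306030008) (.node 96 (.leaf 0x0) (.leaf 0x6020003))) (.node 99 (.node 98 (.leaf 0x0) (.leaf 0x4000200030604020008)) (.node 100 (.leaf 0x0) (.leaf 0x60001))))) (.node 108 (.node 104 (.node 102 (.leaf 0x0) (.node 103 (.leaf 0x6040003) (.leaf 0x0))) (.node 106 (.node 105 (.leaf 0x206050003) (.leaf 0x0)) (.node 107 (.leaf 0x10300030503060007) (.leaf 0x0)))) (.node 112 (.node 110 (.node 109 (.leaf 0x6040003) (.leaf 0x0)) (.node 111 (.leaf 0x6050004) (.leaf 0x0))) (.node 114 (.node 113 (.leaf 0x2060002) (.leaf 0x0)) (.node 115 (.leaf 0x50000020002060202060304000c) (.leaf 0x0))))))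

def argWS_6 : Store := (.node 87 argWS_4 argWS_5)

def argWS_7 : Store := (.node 58 argWS_3 argWS_6)

def argWS_8 : Store := (.node 130 (.node 123 (.node 119 (.node 117 (.leaf 0x1040002) (.node 118 (.leaf 0x0) (.leaf 0x3010301060005))) (.node 121 (.node 120 (.leaf 0x0) (.leaf 0x10300030503060007)) (.node 122 (.leaf 0x0) (.leaf 0x400030002060402060303000b)))) (.node 126 (.node 124 (.leaf 0x0) (.node 125 (.leaf 0x40300000306040007) (.leaf 0x0))) (.node 128 (.node 127 (.leaf 0x403000006020605030009) (.leaf 0x0)) (.node 129 (.leaf 0x4000200030604020008) (.leaf 0x0))))) (.node 137 (.node 133 (.node 131 (.leaf 0x3060002000605030008) (.node 132 (.leaf 0x0) (.leaf 0x0))) (.node 135 (.node 134 (.leaf 0x6000301020603030008) (.leaf 0x6000301020603030008)) (.node 136 (.leaf 0x0) (.leaf 0x0)))) (.node 141 (.node 139 (.node 138 (.leaf 0x402040003) (.leaf 0x402040003)) (.node 140 (.leaf 0x0) (.leaf 0x20001))) (.node 143 (.node 142 (.leaf 0x0) (.leaf 0x2000002))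 (.node 144 (.leaf 0x0) (.leaf 0x20001))))))

def argWS_9 : Store := (.node 159 (.node 152 (.node 148 (.node 146 (.leaf 0x0) (.node 147 (.leaf 0x2020002) (.leaf 0x0))) (.node 150 (.node 149 (.leaf 0x202040003) (.leaf 0x0)) (.node 151 (.leaf 0x200020003) (.leaf 0x0)))) (.node 155 (.node 153 (.leaf 0x200020003) (.node 154 (.leaf 0x0) (.leaf 0x2000002))) (.node 157 (.node 156 (.leaf 0x0) (.leaf 0x200040003)) (.node 158 (.leaf 0x0) (.leaf 0x20004020004))))) (.node 166 (.node 162 (.node 160 (.leaf 0x0) (.node 161 (.leaf 0x2000402040005) (.leaf 0x0))) (.node 164 (.node 163 (.leaf 0x20002020004) (.leaf 0x0)) (.node 165 (.leaf 0x20002000004) (.leaf 0x0)))) (.node 170 (.node 168 (.node 167 (.leaf 0x3040002) (.leaf 0x0)) (.node 169 (.leaf 0x0) (.leaf 0x0))) (.node 172 (.node 171 (.leaf 0x300040003) (.leaf 0x0)) (.node 173 (.leaf 0x0) (.leaf 0x3010303050005))))))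

def argWS_10 : Store := (.node 145 argWS_8 argWS_9)

def argWS_11 : Store := (.node 188 (.node 181 (.node 177 (.node 175 (.leaf 0x300050003) (.node 176 (.leaf 0x0) (.leaf 0xb09080d0004))) (.node 179 (.node 178 (.leaf 0x0) (.leaf 0x0)) (.node 180 (.leaf 0x2000200020005) (.leaf 0x0)))) (.node 184 (.node 182 (.leaf 0x0) (.node 183 (.leaf 0x4030104030005) (.leaf 0x200020002060006))) (.node 186 (.node 185 (.leaf 0x0) (.leaf 0xb0f0c0a0004)) (.node 187 (.leaf 0x0) (.leaf 0x0))))) (.node 195 (.node 191 (.node 189 (.leaf 0x0) (.node 190 (.leaf 0x0) (.leaf 0x104020603030006))) (.node 193 (.node 192 (.leaf 0x104020603030006) (.leaf 0x0)) (.node 194 (.leaf 0x104020603030006) (.leaf 0x0)))) (.node 199 (.node 197 (.node 196 (.leaf 0x2020603050007) (.leaf 0x0)) (.node 198 (.leaf 0x104020603030006) (.leaf 0x0))) (.node 201 (.node 200 (.leaf 0x2020603050007) (.leaf 0x0)) (.node 202 (.leaf 0x104020603030006) (.leaf 0x0))))))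

def argWS_12 : Store := (.node 218 (.node 210 (.node 206 (.node 204 (.leaf 0x2020603050007) (.node 205 (.leaf 0x0) (.leaf 0x104020603030006))) (.node 208 (.node 207 (.leaf 0x0) (.leaf 0x2020603050007)) (.node 209 (.leaf 0x0) (.leaf 0x2020603050007)))) (.node 214 (.node 212 (.node 211 (.leaf 0x0) (.leaf 0x1)) (.node 213 (.leaf 0x0) (.leaf 0x2020603050007))) (.node 216 (.node 215 (.leaf 0x0) (.leaf 0x1)) (.node 217 (.leaf 0x0) (.leaf 0x104020603030006))))) (.node 225 (.node 221 (.node 219 (.leaf 0x0) (.node 220 (.leaf 0x1) (.leaf 0x0))) (.node 223 (.node 222 (.leaf 0x1) (.leaf 0x0)) (.node 224 (.leaf 0x2) (.leaf 0x0)))) (.node 229 (.node 227 (.node 226 (.leaf 0x2020603050007) (.leaf 0x0)) (.node 228 (.leaf 0x102020603050006) (.leaf 0x0))) (.node 231 (.node 230 (.leaf 0x104020603030006) (.leaf 0x0)) (.node 232 (.leaf 0x4020603030005) (.leaf 0x0))))))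

def argWS_13 : Store := (.node 203 argWS_11 argWS_12)

def argWS_14 : Store := (.node 174 argWS_10 argWS_13)

def argWS_15 : Store := (.node 116 argWS_7 argWS_14)

def argWS_16 : Store := (.node 247 (.node 240 (.node 236 (.node 234 (.leaf 0x2020603050007) (.node 235 (.leaf 0x0) (.leaf 0x1))) (.node 238 (.node 237 (.leaf 0x0) (.leaf 0x102020603050006)) (.node 239 (.leaf 0x0) (.leaf 0x2)))) (.node 243 (.node 241 (.leaf 0x0) (.node 242 (.leaf 0x4020603030005) (.leaf 0x0))) (.node 245 (.node 244 (.leaf 0x2) (.leaf 0x0)) (.node 246 (.leaf 0x1) (.leaf 0x0))))) (.node 254 (.node 250 (.node 248 (.leaf 0x2) (.node 249 (.leaf 0x0) (.leaf 0x104020603030006))) (.node 252 (.node 251 (.leaf 0x0) (.leaf 0x4020603030006)) (.node 253 (.leaf 0x0) (.leaf 0x104020603030006)))) (.node 258 (.node 256 (.node 255 (.leaf 0x0) (.leaf 0x1)) (.node 257 (.leaf 0x0) (.leaf 0x2020603050007))) (.node 260 (.node 259 (.leaf 0x0) (.leaf 0x102020603050006)) (.node 261 (.leaf 0x0) (.leaf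 0x2))))))

def argWS_17 : Store := (.node 276 (.node 269 (.node 265 (.node 263 (.leaf 0x0) (.node 264 (.leaf 0x2020603050005) (.leaf 0x0))) (.node 267 (.node 266 (.leaf 0x2) (.leaf 0x0)) (.node 268 (.leaf 0x2020603050007) (.leaf 0x0)))) (.node 272 (.node 270 (.leaf 0x102020603050006) (.node 271 (.leaf 0x0) (.leaf 0x2020603050006))) (.node 274 (.node 273 (.leaf 0x0) (.leaf 0x2)) (.node 275 (.leaf 0x0) (.leaf 0x0))))) (.node 283 (.node 279 (.node 277 (.leaf 0x4020603030006) (.node 278 (.leaf 0x0) (.leaf 0x2))) (.node 281 (.node 280 (.leaf 0x0) (.leaf 0x2)) (.node 282 (.leaf 0x0) (.leaf 0x2020603050005)))) (.node 287 (.node 285 (.node 284 (.leaf 0x0) (.leaf 0x0)) (.node 286 (.leaf 0x1) (.leaf 0x0))) (.node 289 (.node 288 (.leaf 0x0) (.leaf 0x2020603050005)) (.node 290 (.leaf 0x0) (.leaf 0x2020603050005))))))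

def argWS_18 : Store := (.node 262 argWS_16 argWS_17)

def argWS_19 : Store := (.node 305 (.node 298 (.node 294 (.node 292 (.leaf 0x0) (.node 293 (.leaf 0x2020603050007) (.leaf 0x0))) (.node 296 (.node 295 (.leaf 0x2) (.leaf 0x0)) (.node 297 (.leaf 0x2) (.leaf 0x0)))) (.node 301 (.node 299 (.leaf 0x1) (.node 300 (.leaf 0x0) (.leaf 0x10001))) (.node 303 (.node 302 (.leaf 0x0) (.leaf 0x2020603050007)) (.node 304 (.leaf 0x0) (.leaf 0x2020603050005))))) (.node 312 (.node 308 (.node 306 (.leaf 0x0) (.node 307 (.leaf 0x0) (.leaf 0x2020603050006))) (.node 310 (.node 309 (.leaf 0x2020603050006) (.leaf 0x0)) (.node 311 (.leaf 0x0) (.leaf 0x0)))) (.node 316 (.node 314 (.node 313 (.leaf 0x403000002060305030603000b) (.leaf 0x104020603030006)) (.node 315 (.leaf 0x0) (.leaf 0x104020603030006))) (.node 318 (.node 317 (.leaf 0x0) (.leaf 0x104020603030006)) (.node 319 (.leaf 0x0) (.leaf 0x104020603030006))))))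

def argWS_20 : Store := (.node 334 (.node 327 (.node 323 (.node 321 (.leaf 0x0) (.node 322 (.leaf 0x103000002060202060305000b) (.leaf 0x0))) (.node 325 (.node 324 (.leaf 0x104020603030006) (.leaf 0x0)) (.node 326 (.leaf 0x2020603050007) (.leaf 0x0)))) (.node 330 (.node 328 (.leaf 0x2020603050007) (.node 329 (.leaf 0x0) (.leaf 0x1))) (.node 332 (.node 331 (.leaf 0x0) (.leaf 0x1)) (.node 333 (.leaf 0x0) (.leaf 0x501020000030602020603000b))))) (.node 341 (.node 337 (.node 335 (.leaf 0x0) (.node 336 (.leaf 0x2020603050007) (.leaf 0x0))) (.node 339 (.node 338 (.leaf 0x303000006020202060303000b) (.leaf 0x0)) (.node 340 (.leaf 0x303000006020202060303000b) (.leaf 0x0)))) (.node 345 (.node 343 (.node 342 (.leaf 0x3050306030005) (.leaf 0x0)) (.node 344 (.leaf 0x104020603030006) (.leaf 0x0))) (.node 347 (.node 346 (.leaf 0x103000002060202060305000b) (.leaf 0x0)) (.node 348 (.leaf 0x403000002060305030603000b) (.leaf 0x0))))))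

def argWS_21 : Store := (.node 320 argWS_19 argWS_20)

def argWS_22 : Store := (.node 291 argWS_18 argWS_21)

def argWS_23 : Store := (.node 363 (.node 356 (.node 352 (.node 350 (.leaf 0x500020000030602020603000b) (.node 351 (.leaf 0x0) (.leaf 0x104020603030006))) (.node 354 (.node 353 (.leaf 0x0) (.leaf 0x3000002060202060305000a)) (.node 355 (.leaf 0x0) (.leaf 0x103000002060202060305000b)))) (.node 359 (.node 357 (.leaf 0x0) (.node 358 (.leaf 0x3030000020202060503000a) (.leaf 0x0))) (.node 361 (.node 360 (.leaf 0x2020603050007) (.leaf 0x0)) (.node 362 (.leaf 0x10200000306050007) (.leaf 0x0))))) (.node 370 (.node 366 (.node 364 (.leaf 0x103000002060202060305000b) (.node 365 (.leaf 0x0) (.leaf 0x10300000206050007))) (.node 368 (.node 367 (.leaf 0x0) (.leaf 0x500020000030602020603000b)) (.node 369 (.leaf 0x0) (.leaf 0x20200000206020603060402000c)))) (.node 374 (.node 372 (.node 371 (.leaf 0x0) (.leaf 0x20200000206020603060402000c)) (.node 373 (.leaf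 0x0) (.leaf 0x3000002020603030009))) (.node 376 (.node 375 (.leaf 0x0) (.leaf 0x10200000306050007)) (.node 377 (.leaf 0x0) (.leaf 0x4030000020602060303000a))))))

def argWS_24 : Store := (.node 392 (.node 385 (.node 381 (.node 379 (.leaf 0x0) (.node 380 (.leaf 0x4030000020602060303000a) (.leaf 0x0))) (.node 383 (.node 382 (.leaf 0x103000002040006) (.leaf 0x0)) (.node 384 (.leaf 0x2020603050007) (.leaf 0x0)))) (.node 388 (.node 386 (.leaf 0x5010200000605030008) (.node 387 (.leaf 0x0) (.leaf 0x3000002060202060305000a))) (.node 390 (.node 389 (.leaf 0x0) (.leaf 0x103000002060202060305000b)) (.node 391 (.leaf 0x0) (.leaf 0x501020000030602020603000b))))) (.node 399 (.node 395 (.node 393 (.leaf 0x0) (.node 394 (.leaf 0x1020605030005) (.leaf 0x0))) (.node 397 (.node 396 (.leaf 0x403000002060305030603000b) (.leaf 0x0)) (.node 398 (.leaf 0x20200000206020202060304000c) (.leaf 0x0)))) (.node 403 (.node 401 (.node 400 (.leaf 0x501020000030602020603000b) (.leaf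 0x0)) (.node 402 (.leaf 0x300000204020603030009) (.leaf 0x0))) (.node 405 (.node 404 (.leaf 0x5010200000605030008) (.leaf 0x0)) (.node 406 (.leaf 0x1030000050306030008) (.leaf 0x0))))))

def argWS_25 : Store := (.node 378 argWS_23 argWS_24)

def argWS_26 : Store := (.node 421 (.node 414 (.node 410 (.node 408 (.leaf 0x1020605030005) (.node 409 (.leaf 0x0) (.leaf 0x20605030004))) (.node 412 (.node 411 (.leaf 0x0) (.leaf 0x20200000206020202060304000c)) (.node 413 (.leaf 0x0) (.leaf 0x20603030005)))) (.node 417 (.node 415 (.leaf 0x0) (.node 416 (.leaf 0x3030000020202060503000a) (.leaf 0x0))) (.node 419 (.node 418 (.leaf 0x50002000003050007) (.leaf 0x0)) (.node 420 (.leaf 0x1) (.leaf 0x0))))) (.node 428 (.node 424 (.node 422 (.leaf 0x4030000020005) (.node 423 (.leaf 0x0) (.leaf 0x20200000206020202060304000c))) (.node 426 (.node 425 (.leaf 0x0) (.leaf 0x6020605030005)) (.node 427 (.leaf 0x0) (.leaf 0x103000002060202060305000b)))) (.node 432 (.node 430 (.node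 429 (.leaf 0x0) (.leaf 0x50102000003060202060304000c)) (.node 431 (.leaf 0x0) (.leaf 0x1030000050306030008))) (.node 434 (.node 433 (.leaf 0x0) (.leaf 0x3000002050005)) (.node 435 (.leaf 0x0) (.leaf 0x0))))))

def argWS_27 : Store := (.node 451 (.node 443 (.node 439 (.node 437 (.leaf 0x403000002060006) (.node 438 (.leaf 0x403000002060006) (.leaf 0x0))) (.node 441 (.node 440 (.leaf 0x403000002060305030603000b) (.leaf 0x0)) (.node 442 (.leaf 0x30604020004) (.leaf 0x0)))) (.node 447 (.node 445 (.node 444 (.leaf 0x1) (.leaf 0x0)) (.node 446 (.leaf 0x501020000030602020603000b) (.leaf 0x0))) (.node 449 (.node 448 (.leaf 0x0) (.leaf 0x1020000020603040008)) (.node 450 (.leaf 0x1020000020603040008) (.leaf 0x0))))) (.node 458 (.node 454 (.node 452 (.leaf 0x0) (.node 453 (.leaf 0x30604020004) (.leaf 0x30604020004))) (.node 456 (.node 455 (.leaf 0x0) (.leaf 0x104020603030006)) (.node 457 (.leaf 0x0) (.leaf 0x103000002060202060305000b)))) (.node 462 (.node 460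 (.node 459 (.leaf 0x0) (.leaf 0x104020603030006)) (.node 461 (.leaf 0x0) (.leaf 0x403000002060305030603000b))) (.node 464 (.node 463 (.leaf 0x0) (.leaf 0x2020603050007)) (.node 465 (.leaf 0x0) (.leaf 0x403000002060305030603000b))))))

def argWS_28 : Store := (.node 436 argWS_26 argWS_27)

def argWS_29 : Store := (.node 407 argWS_25 argWS_28)

def argWS_30 : Store := (.node 349 argWS_22 argWS_29)

def argWS_31 : Store := (.node 233 argWS_15 argWS_30)

def argWS_32 : Store := (.node 480 (.node 473 (.node 469 (.node 467 (.leaf 0x0) (.node 468 (.leaf 0x2020603040007) (.leaf 0x0))) (.node 471 (.node 470 (.leaf 0x202000002060202020603000b) (.leaf 0x0)) (.node 472 (.leaf 0x2020603040007) (.leaf 0x0)))) (.node 476 (.node 474 (.leaf 0x403000002060305030603000b) (.node 475 (.leaf 0x0) (.leaf 0x103000002060202060305000b))) (.node 478 (.node 477 (.leaf 0x0) (.leaf 0x2020603050007)) (.node 479 (.leaf 0x0) (.leaf 0x6030604020006))))) (.node 487 (.node 483 (.node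 481 (.leaf 0x0) (.node 482 (.leaf 0x50102000003060305030603000c) (.leaf 0x0))) (.node 485 (.node 484 (.leaf 0x0) (.leaf 0x50102000003060305030603000c)) (.node 486 (.leaf 0x0) (.leaf 0xa0b0002)))) (.node 491 (.node 489 (.node 488 (.leaf 0x30001) (.leaf 0x0)) (.node 490 (.leaf 0x0) (.leaf 0x3000002060005))) (.node 493 (.node 492 (.leaf 0x0) (.leaf 0xc090f0a0e0005)) (.node 494 (.leaf 0x30001) (.leaf 0x0))))))

def argWS_33 : Store := (.node 509 (.node 502 (.node 498 (.node 496 (.leaf 0x0) (.node 497 (.leaf 0x50002) (.leaf 0x0))) (.node 500 (.node 499 (.leaf 0x0) (.leaf 0x403000002060006)) (.node 501 (.leaf 0x20603030004) (.leaf 0x0)))) (.node 505 (.node 503 (.leaf 0xc090c0a0004) (.node 504 (.leaf 0x30001) (.leaf 0x0))) (.node 507 (.node 506 (.leaf 0x0) (.leaf 0x0)) (.node 508 (.leaf 0x0) (.leaf 0x40200000206030007))))) (.node 516 (.node 512 (.node 510 (.leaf 0x40200000206030007) (.node 511 (.leaf 0x0) (.leaf 0x0))) (.node 514 (.node 513 (.leaf 0x0) (.leaf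 0x30604020006)) (.node 515 (.leaf 0x0) (.leaf 0x2)))) (.node 520 (.node 518 (.node 517 (.leaf 0x2) (.leaf 0x0)) (.node 519 (.leaf 0x30604020006) (.leaf 0x0))) (.node 522 (.node 521 (.leaf 0x40200000206030007) (.leaf 0x0)) (.node 523 (.leaf 0x2) (.leaf 0x0))))))

def argWS_34 : Store := (.node 495 argWS_32 argWS_33)

def argWS_35 : Store := (.node 538 (.node 531 (.node 527 (.node 525 (.leaf 0x3000002060402060303000a) (.node 526 (.leaf 0x0) (.leaf 0x4020000030402060303000a))) (.node 529 (.node 528 (.leaf 0x0) (.leaf 0x30604020006)) (.node 530 (.leaf 0x0) (.leaf 0x30604020004)))) (.node 534 (.node 532 (.leaf 0x0) (.node 533 (.leaf 0x30604020006) (.leaf 0x0))) (.node 536 (.node 535 (.leaf 0x300000206020206030009) (.leaf 0x0)) (.node 537 (.leaf 0x40200000206030007) (.leaf 0x0))))) (.node 545 (.node 541 (.node 539 (.leaf 0x2) (.node 540 (.leaf 0x0) (.leaf 0x40200000206030007))) (.node 543 (.node 542 (.leaf 0x0) (.leaf 0x300000206020206030009)) (.node 544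 (.leaf 0x0) (.leaf 0x30604020004)))) (.node 549 (.node 547 (.node 546 (.leaf 0x0) (.leaf 0x402000003060202060304000b)) (.node 548 (.leaf 0x0) (.leaf 0x300000206020206030009))) (.node 551 (.node 550 (.leaf 0x0) (.leaf 0x0)) (.node 552 (.leaf 0x300000206020206030009) (.leaf 0x0))))))

def argWS_36 : Store := (.node 567 (.node 560 (.node 556 (.node 554 (.leaf 0x300000206020206030009) (.node 555 (.leaf 0x0) (.leaf 0x30604020004))) (.node 558 (.node 557 (.leaf 0x0) (.leaf 0x2)) (.node 559 (.leaf 0x0) (.leaf 0x4020000030402060303000a)))) (.node 563 (.node 561 (.leaf 0x0) (.node 562 (.leaf 0x306030503060008) (.leaf 0x0))) (.node 565 (.node 564 (.leaf 0x30604020006) (.leaf 0x0)) (.node 566 (.leaf 0x0) (.leaf 0x300000206020206030009))))) (.node 574 (.node 570 (.node 568 (.leaf 0x0) (.node 569 (.leaf 0x300000206020206030009) (.leaf 0x0))) (.node 572 (.node 571 (.leaf 0x4020000030402060303000a) (.leaf 0x0)) (.node 573 (.leaf 0x6050002) (.leaf 0x0)))) (.node 578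 (.node 576 (.node 575 (.leaf 0x40200000206030007) (.leaf 0x0)) (.node 577 (.leaf 0x3000002020605030008) (.leaf 0x0))) (.node 580 (.node 579 (.leaf 0x300000206020206030009) (.leaf 0x0)) (.node 581 (.leaf 0x306030503060008) (.leaf 0x0))))))

def argWS_37 : Store := (.node 553 argWS_35 argWS_36)

def argWS_38 : Store := (.node 524 argWS_34 argWS_37)

def argWS_39 : Store := (.node 596 (.node 589 (.node 585 (.node 583 (.leaf 0x3000002020605030008) (.node 584 (.leaf 0x0) (.leaf 0x4020000030402060303000a))) (.node 587 (.node 586 (.leaf 0x0) (.leaf 0x40200000206030007)) (.node 588 (.leaf 0x0) (.leaf 0x306030503060008)))) (.node 592 (.node 590 (.leaf 0x0) (.node 591 (.leaf 0x306030503060008) (.leaf 0x0))) (.node 594 (.node 593 (.leaf 0x0) (.leaf 0x306030503060008)) (.node 595 (.leaf 0x0) (.leaf 0x402000003060202060304000b))))) (.node 603 (.node 599 (.node 597 (.leaf 0x0) (.node 598 (.leaf 0x300000206020206030009) (.leaf 0x0))) (.node 601 (.node 600 (.leaf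 0x300000202020603040009) (.leaf 0x0)) (.node 602 (.leaf 0x300000206020206030009) (.leaf 0x0)))) (.node 607 (.node 605 (.node 604 (.leaf 0x306030503060008) (.leaf 0x0)) (.node 606 (.leaf 0x30604020006) (.leaf 0x0))) (.node 609 (.node 608 (.leaf 0x3000002020605030008) (.leaf 0x0)) (.node 610 (.leaf 0x40200000206030007) (.leaf 0x0))))))

def argWS_40 : Store := (.node 625 (.node 618 (.node 614 (.node 612 (.leaf 0x30604020004) (.node 613 (.leaf 0x0) (.leaf 0x306030503060008))) (.node 616 (.node 615 (.leaf 0x0) (.leaf 0x6050004)) (.node 617 (.leaf 0x0) (.leaf 0x300000202020603040009)))) (.node 621 (.node 619 (.leaf 0x0) (.node 620 (.leaf 0x300000202020603040009) (.leaf 0x0))) (.node 623 (.node 622 (.leaf 0x402000003060202060304000b) (.leaf 0x0)) (.node 624 (.leaf 0x402000003060202060304000b) (.leaf 0x0))))) (.node 632 (.node 628 (.node 626 (.leaf 0x306030503060008) (.node 627 (.leaf 0x0) (.leaf 0x4020000030402060303000a))) (.node 630 (.node 629 (.leaf 0x0)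 (.leaf 0x40200000206030007)) (.node 631 (.leaf 0x0) (.leaf 0x30604020004)))) (.node 636 (.node 634 (.node 633 (.leaf 0x0) (.leaf 0x0)) (.node 635 (.leaf 0x3000002020605030008) (.leaf 0x3000002020605030008))) (.node 638 (.node 637 (.leaf 0x0) (.leaf 0x0)) (.node 639 (.leaf 0x30604020004) (.leaf 0x30604020004))))))

def argWS_41 : Store := (.node 611 argWS_39 argWS_40)

def argWS_42 : Store := (.node 654 (.node 647 (.node 643 (.node 641 (.leaf 0x0) (.node 642 (.leaf 0x0) (.leaf 0x0))) (.node 645 (.node 644 (.leaf 0x4020000030603060402000a) (.leaf 0x0)) (.node 646 (.leaf 0x3000002020605030008) (.leaf 0x3000002020605030008)))) (.node 650 (.node 648 (.leaf 0x0) (.node 649 (.leaf 0x2020603040005) (.leaf 0x0))) (.node 652 (.node 651 (.leaf 0xb080d0a0004) (.leaf 0x0)) (.node 653 (.leaf 0x1030002) (.leaf 0x3060002000402050008))))) (.node 661 (.node 657 (.node 655 (.leaf 0x0) (.node 656 (.leaf 0x7070f0c0d0005) (.leaf 0x0))) (.node 659 (.node 658 (.leaf 0xb090f0e0a0005)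 (.leaf 0x291000290)) (.node 660 (.leaf 0x0) (.leaf 0x3000002020605030008)))) (.node 665 (.node 663 (.node 662 (.leaf 0x3030000030602040008) (.leaf 0x0)) (.node 664 (.leaf 0x0) (.leaf 0x0))) (.node 667 (.node 666 (.leaf 0xc0001) (.leaf 0x0)) (.node 668 (.leaf 0x40200000206030007) (.leaf 0x0))))))

def argWS_43 : Store := (.node 684 (.node 676 (.node 672 (.node 670 (.leaf 0xa0b0a0003) (.node 671 (.leaf 0x20001) (.leaf 0x0))) (.node 674 (.node 673 (.leaf 0x0) (.leaf 0x0)) (.node 675 (.leaf 0x1040002) (.leaf 0x1020104020005)))) (.node 680 (.node 678 (.node 677 (.leaf 0x0) (.leaf 0xa0b090a0e0005)) (.node 679 (.leaf 0x0) (.leaf 0x0))) (.node 682 (.node 681 (.leaf 0x0) (.leaf 0x30001)) (.node 683 (.leaf 0x0) (.leaf 0x3000006030503060008))))) (.node 691 (.node 687 (.node 685 (.leaf 0x3000006030503060008) (.node 686 (.leaf 0x0) (.leaf 0x0))) (.node 689 (.node 688 (.leaf 0x206030005) (.leaf 0x20001)) (.node 690 (.leaf 0x0) (.leaf 0x0)))) (.node 695 (.node 693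 (.node 692 (.leaf 0x0) (.leaf 0x90c0d0003)) (.node 694 (.leaf 0x30000020206030007) (.leaf 0x0))) (.node 697 (.node 696 (.leaf 0xb070d0003) (.leaf 0x0)) (.node 698 (.leaf 0x602000306040006) (.leaf 0x401030102060402060303000b))))))

def argWS_44 : Store := (.node 669 argWS_42 argWS_43)

def argWS_45 : Store := (.node 640 argWS_41 argWS_44)

def argWS_46 : Store := (.node 582 argWS_38 argWS_45)

def argWS_47 : Store := (.node 713 (.node 706 (.node 702 (.node 700 (.leaf 0x0) (.node 701 (.leaf 0x80f0e0a0004) (.leaf 0x0))) (.node 704 (.node 703 (.leaf 0x2bd) (.leaf 0x0)) (.node 705 (.leaf 0x202000002060202020603000b) (.leaf 0x500000201030006)))) (.node 709 (.node 707 (.leaf 0x0) (.node 708 (.leaf 0x0) (.leaf 0x0))) (.node 711 (.node 710 (.leaf 0x80f0c0d0004) (.leaf 0x30604020006)) (.node 712 (.leaf 0x0) (.leaf 0x30604020006))))) (.node 720 (.node 716 (.node 714 (.leaf 0x0) (.node 715 (.leaf 0x30000020206030007) (.leaf 0x0))) (.node 718 (.node 717 (.leaf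 0x30000020206030007) (.leaf 0x0)) (.node 719 (.leaf 0x30604020006) (.leaf 0x0)))) (.node 724 (.node 722 (.node 721 (.leaf 0x0) (.leaf 0x40001)) (.node 723 (.leaf 0x0) (.leaf 0xa0b090f0c0d0006))) (.node 726 (.node 725 (.leaf 0x301030003) (.leaf 0x0)) (.node 727 (.leaf 0x0) (.leaf 0x20200000206020202060304000c))))))

def argWS_48 : Store := (.node 742 (.node 735 (.node 731 (.node 729 (.leaf 0x0) (.node 730 (.leaf 0x0) (.leaf 0x103050306030006))) (.node 733 (.node 732 (.leaf 0x303000002020402060303000b) (.leaf 0x0)) (.node 734 (.leaf 0x7070f0d0004) (.leaf 0x301030003)))) (.node 738 (.node 736 (.leaf 0x0) (.node 737 (.leaf 0x0) (.leaf 0x40001))) (.node 740 (.node 739 (.leaf 0x0) (.leaf 0x0)) (.node 741 (.leaf 0x200000306050007) (.leaf 0x30300000602020202060305000c))))) (.node 749 (.node 745 (.node 743 (.leaf 0x0) (.node 744 (.leaf 0xf0d0002) (.leaf 0x301030003))) (.node 747 (.node 746 (.leaf 0x0) (.leaf 0x0)) (.node 748 (.leaf 0x6030604020006) (.leaf 0x0))))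 (.node 753 (.node 751 (.node 750 (.leaf 0x0) (.leaf 0x50001)) (.node 752 (.leaf 0x10300000206040007) (.leaf 0x0))) (.node 755 (.node 754 (.leaf 0xb09080f0d0c0006) (.leaf 0x301030003)) (.node 756 (.leaf 0x0) (.leaf 0x0))))))

def argWS_49 : Store := (.node 728 argWS_47 argWS_48)

def argWS_50 : Store := (.node 771 (.node 764 (.node 760 (.node 758 (.leaf 0x0) (.node 759 (.leaf 0x0) (.leaf 0x6020603030007))) (.node 762 (.node 761 (.leaf 0x6020603030007) (.leaf 0x0)) (.node 763 (.leaf 0x6020603030007) (.leaf 0x0)))) (.node 767 (.node 765 (.leaf 0x20605030004) (.node 766 (.leaf 0x0) (.leaf 0x6020603030007))) (.node 769 (.node 768 (.leaf 0x0) (.leaf 0x20605030004)) (.node 770 (.leaf 0x0) (.leaf 0x6020603030007))))) (.node 778 (.node 774 (.node 772 (.leaf 0x0) (.node 773 (.leaf 0x602020603050008) (.leaf 0x0))) (.node 776 (.node 775 (.leaf 0x602020603050008) (.leaf 0x0)) (.node 777 (.leaf 0x0) (.leaf 0x6020603030007)))) (.node 782 (.node 780 (.node 779 (.leaf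 0x0) (.leaf 0x20605030004)) (.node 781 (.leaf 0x0) (.leaf 0x20605030004))) (.node 784 (.node 783 (.leaf 0x0) (.leaf 0x20605030004)) (.node 785 (.leaf 0x0) (.leaf 0x6020603030007))))))

def argWS_51 : Store := (.node 800 (.node 793 (.node 789 (.node 787 (.leaf 0x0) (.node 788 (.leaf 0x602020603050008) (.leaf 0x0))) (.node 791 (.node 790 (.leaf 0x20605030004) (.leaf 0x0)) (.node 792 (.leaf 0x0) (.leaf 0x6020603030007)))) (.node 796 (.node 794 (.leaf 0x0) (.node 795 (.leaf 0x20605030004) (.leaf 0x0))) (.node 798 (.node 797 (.leaf 0x6020603030007) (.leaf 0x0)) (.node 799 (.leaf 0x602020603050008) (.leaf 0x0))))) (.node 807 (.node 803 (.node 801 (.leaf 0x20605030004) (.node 802 (.leaf 0x0) (.leaf 0x6020603030007))) (.node 805 (.node 804 (.leaf 0x0) (.leaf 0x6020603030007)) (.node 806 (.leaf 0x0) (.leaf 0x0)))) (.node 811 (.node 809 (.node 808 (.leaf 0x20605030004) (.leaf 0x0)) (.node 810 (.leaf 0x0) (.leaf 0x20605030004))) (.node 813 (.node 812 (.leaf 0x0)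 (.leaf 0x6020603030007)) (.node 814 (.leaf 0x0) (.leaf 0x6020603030007))))))

def argWS_52 : Store := (.node 786 argWS_50 argWS_51)

def argWS_53 : Store := (.node 757 argWS_49 argWS_52)

def argWS_54 : Store := (.node 829 (.node 822 (.node 818 (.node 816 (.leaf 0x0) (.node 817 (.leaf 0x6020603030007) (.leaf 0x0))) (.node 820 (.node 819 (.leaf 0x6020603030007) (.leaf 0x0)) (.node 821 (.leaf 0x0) (.leaf 0x6020603030007)))) (.node 825 (.node 823 (.leaf 0x0) (.node 824 (.leaf 0x6020603030007) (.leaf 0x0))) (.node 827 (.node 826 (.leaf 0x6020603030007) (.leaf 0x0)) (.node 828 (.leaf 0x0) (.leaf 0x0))))) (.node 836 (.node 832 (.node 830 (.leaf 0x0) (.node 831 (.leaf 0x0) (.leaf 0x0))) (.node 834 (.node 833 (.leaf 0x0) (.leaf 0x6020603030007)) (.node 835 (.leaf 0x0) (.leaf 0x0)))) (.node 840 (.node 838 (.node 837 (.leaf 0x6020603030007) (.leaf 0x0)) (.node 839 (.leaf 0x6020603030007) (.leaf 0x0))) (.node 842 (.node 841 (.leaf 0x0) (.leaf 0x0)) (.node 843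 (.leaf 0x0) (.leaf 0x6020603030007))))))

def argWS_55 : Store := (.node 858 (.node 851 (.node 847 (.node 845 (.leaf 0x0) (.node 846 (.leaf 0x20605030004) (.leaf 0x0))) (.node 849 (.node 848 (.leaf 0x0) (.leaf 0x0)) (.node 850 (.leaf 0x6020603030007) (.leaf 0x0)))) (.node 854 (.node 852 (.leaf 0x20605030004) (.node 853 (.leaf 0x0) (.leaf 0x0))) (.node 856 (.node 855 (.leaf 0x602020603050008) (.leaf 0x0)) (.node 857 (.leaf 0x0) (.leaf 0x0))))) (.node 865 (.node 861 (.node 859 (.leaf 0x0) (.node 860 (.leaf 0x0) (.leaf 0x6040004))) (.node 863 (.node 862 (.leaf 0x0) (.leaf 0x602020603050008)) (.node 864 (.leaf 0x602020603050008) (.leaf 0x0)))) (.node 869 (.node 867 (.node 866 (.leaf 0x0) (.leaf 0x0)) (.node 868 (.leaf 0x6040002) (.leaf 0x0))) (.node 871 (.node 870 (.leaf 0x0) (.leaf 0x1020000030602060303000a)) (.node 872 (.leaf 0x402000006020202060304000b) (.leaf 0x0))))))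

def argWS_56 : Store := (.node 844 argWS_54 argWS_55)

def argWS_57 : Store := (.node 887 (.node 880 (.node 876 (.node 874 (.leaf 0x9080d0a0004) (.node 875 (.leaf 0x90e0c0003) (.leaf 0x0))) (.node 878 (.node 877 (.leaf 0x202000002060202020603000b) (.leaf 0x10304020603030007)) (.node 879 (.leaf 0x0) (.leaf 0xb09080a0004)))) (.node 883 (.node 881 (.leaf 0x0) (.node 882 (.leaf 0x37000036a) (.leaf 0x0))) (.node 885 (.node 884 (.leaf 0x3000002020605030008) (.leaf 0x20102020603040009)) (.node 886 (.leaf 0x0) (.leaf 0x0))))) (.node 894 (.node 890 (.node 888 (.leaf 0x0) (.node 889 (.leaf 0xa0b0f0d0a0005) (.leaf 0x0))) (.node 892 (.node 891 (.leaf 0x40200000004) (.leaf 0x200000206020402060303000b)) (.node 893 (.leaf 0x0) (.leaf 0xb0f0e0a0004)))) (.node 898 (.node 896 (.node 895 (.leaf 0x0) (.leaf 0x0)) (.node 897 (.leaf 0x50001) (.leaf 0x400000200020602060503000b))) (.node 900 (.node 899 (.leaf 0x0) (.leaf 0xb09080a0004)) (.node 901 (.leaf 0x0) (.leaf 0x384))))))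

def argWS_58 : Store := (.node 917 (.node 909 (.node 905 (.node 903 (.leaf 0x0) (.node 904 (.leaf 0x602020603050008) (.leaf 0x20201020602050007))) (.node 907 (.node 906 (.leaf 0x0) (.leaf 0x0)) (.node 908 (.leaf 0x0) (.leaf 0xb09080e0004)))) (.node 913 (.node 911 (.node 910 (.leaf 0x0) (.leaf 0x0)) (.node 912 (.leaf 0x40200000004) (.leaf 0x2010200020005))) (.node 915 (.node 914 (.leaf 0x0) (.leaf 0x0)) (.node 916 (.leaf 0x0) (.leaf 0xb09080e0004))))) (.node 924 (.node 920 (.node 918 (.leaf 0xb070f0a0004) (.node 919 (.leaf 0x0) (.leaf 0x6020002))) (.node 922 (.node 921 (.leaf 0x20002020206030009) (.leaf 0x0)) (.node 923 (.leaf 0xb0f0d0c0004) (.leaf 0x0)))) (.node 928 (.node 926 (.node 925 (.leaf 0x39b) (.leaf 0x90c0a0003)) (.node 927 (.leaf 0x0) (.leaf 0xb090f0e0004))) (.node 930 (.node 929 (.leaf 0x30001) (.leaf 0x0)) (.node 931 (.leaf 0x0) (.leaf 0xb0f0002))))))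

def argWS_59 : Store := (.node 902 argWS_57 argWS_58)

def argWS_60 : Store := (.node 873 argWS_56 argWS_59)

def argWS_61 : Store := (.node 815 argWS_53 argWS_60)

def argWS_62 : Store := (.node 699 argWS_46 argWS_61)

def argWS_63 : Store := (.node 466 argWS_31 argWS_62)

def argWS_64 : Store := (.node 946 (.node 939 (.node 935 (.node 933 (.leaf 0x30001) (.node 934 (.leaf 0x0) (.leaf 0x0))) (.node 937 (.node 936 (.leaf 0x0) (.leaf 0x0)) (.node 938 (.leaf 0x604020603030006) (.leaf 0x604020603030006)))) (.node 942 (.node 940 (.leaf 0x0) (.node 941 (.leaf 0x604020603030006) (.leaf 0x0))) (.node 944 (.node 943 (.leaf 0x306030503060006) (.leaf 0x0)) (.node 945 (.leaf 0x604020603030006) (.leaf 0x0))))) (.node 953 (.node 949 (.node 947 (.leaf 0x306030503060006) (.node 948 (.leaf 0x0) (.leaf 0x604020603030006))) (.node 951 (.node 950 (.leaf 0x0) (.leaf 0x6020206030005)) (.node 952 (.leaf 0x0) (.leaf 0x604020603030006)))) (.node 957 (.node 955 (.node 954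 (.leaf 0x0) (.leaf 0x306030503060006)) (.node 956 (.leaf 0x0) (.leaf 0x604020603030006))) (.node 959 (.node 958 (.leaf 0x0) (.leaf 0x6020206030005)) (.node 960 (.leaf 0x0) (.leaf 0x604020603030006))))))

def argWS_65 : Store := (.node 975 (.node 968 (.node 964 (.node 962 (.leaf 0x0) (.node 963 (.leaf 0x306030503060006) (.leaf 0x0))) (.node 966 (.node 965 (.leaf 0x306030503060006) (.leaf 0x0)) (.node 967 (.leaf 0x6020206030005) (.leaf 0x0)))) (.node 971 (.node 969 (.leaf 0x604020603030006) (.node 970 (.leaf 0x0) (.leaf 0x6020206030005))) (.node 973 (.node 972 (.leaf 0x0) (.leaf 0x604020603030006)) (.node 974 (.leaf 0x0) (.leaf 0x0))))) (.node 982 (.node 978 (.node 976 (.leaf 0x6020206030005) (.node 977 (.leaf 0x0) (.leaf 0x306030503060006))) (.node 980 (.node 979 (.leaf 0x0) (.leaf 0x306030503060006)) (.node 981 (.leaf 0x0) (.leaf 0x0)))) (.node 986 (.node 984 (.node 983 (.leaf 0x0) (.leaf 0x6020206030005)) (.node 985 (.leaf 0x0) (.leaf 0x6020206030005)))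 (.node 988 (.node 987 (.leaf 0x0) (.leaf 0x604020603030006)) (.node 989 (.leaf 0x0) (.leaf 0x604020603030006))))))

def argWS_66 : Store := (.node 961 argWS_64 argWS_65)

def argWS_67 : Store := (.node 1004 (.node 997 (.node 993 (.node 991 (.leaf 0x0) (.node 992 (.leaf 0x604020603030006) (.leaf 0x0))) (.node 995 (.node 994 (.leaf 0x0) (.leaf 0x306030503060006)) (.node 996 (.leaf 0x0) (.leaf 0x0)))) (.node 1000 (.node 998 (.leaf 0x604020603030006) (.node 999 (.leaf 0x0) (.leaf 0x6020206030005))) (.node 1002 (.node 1001 (.leaf 0x0) (.leaf 0x0)) (.node 1003 (.leaf 0x604020603030006) (.leaf 0x0))))) (.node 1011 (.node 1007 (.node 1005 (.leaf 0x6020206030005) (.node 1006 (.leaf 0x0) (.leaf 0x6020206030005))) (.node 1009 (.node 1008 (.leaf 0x0) (.leaf 0x0)) (.node 1010 (.leaf 0x0) (.leaf 0x6020206030005)))) (.node 1015 (.node 1013 (.node 1012 (.leaf 0x0) (.leaf 0x0)) (.node 1014 (.leaf 0x604020603030006) (.leaf 0x0))) (.node 1017 (.node 1016 (.leaf 0x306030503060006)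 (.leaf 0x0)) (.node 1018 (.leaf 0x6020206030005) (.leaf 0x0))))))

def argWS_68 : Store := (.node 1033 (.node 1026 (.node 1022 (.node 1020 (.leaf 0x0) (.node 1021 (.leaf 0x604020603030006) (.leaf 0x0))) (.node 1024 (.node 1023 (.leaf 0x6020206030005) (.leaf 0x0)) (.node 1025 (.leaf 0x604020603030006) (.leaf 0x0)))) (.node 1029 (.node 1027 (.leaf 0x6020206030005) (.node 1028 (.leaf 0x0) (.leaf 0x0))) (.node 1031 (.node 1030 (.leaf 0x604020603030006) (.leaf 0x0)) (.node 1032 (.leaf 0x604020603030006) (.leaf 0x0))))) (.node 1040 (.node 1036 (.node 1034 (.leaf 0x604020603030006) (.node 1035 (.leaf 0x0) (.leaf 0x306030503060006))) (.node 1038 (.node 1037 (.leaf 0x0) (.leaf 0x0)) (.node 1039 (.leaf 0x604020603030006) (.leaf 0x0)))) (.node 1044 (.node 1042 (.node 1041 (.leaf 0x604020603030006) (.leaf 0x0)) (.node 1043 (.leaf 0x604020603030006) (.leaf 0x0))) (.node 1046 (.node 1045 (.leaf 0x604020603030006) (.leaf 0x0)) (.node 1047 (.leaf 0x6020206030005)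 (.leaf 0x0))))))

def argWS_69 : Store := (.node 1019 argWS_67 argWS_68)

def argWS_70 : Store := (.node 990 argWS_66 argWS_69)

def argWS_71 : Store := (.node 1062 (.node 1055 (.node 1051 (.node 1049 (.leaf 0x6020206030005) (.node 1050 (.leaf 0x0) (.leaf 0x0))) (.node 1053 (.node 1052 (.leaf 0x0) (.leaf 0x0)) (.node 1054 (.leaf 0x6020206030005) (.leaf 0x0)))) (.node 1058 (.node 1056 (.leaf 0x6020206030005) (.node 1057 (.leaf 0x0) (.leaf 0x0))) (.node 1060 (.node 1059 (.leaf 0x6020206030005) (.leaf 0x6020206030005)) (.node 1061 (.leaf 0x0) (.leaf 0x0))))) (.node 1069 (.node 1065 (.node 1063 (.leaf 0x0) (.node 1064 (.leaf 0x6020605030005) (.leaf 0x0))) (.node 1067 (.node 1066 (.leaf 0x6020206030005) (.leaf 0x6020206030005)) (.node 1068 (.leaf 0x0) (.leaf 0xf0e0c0003)))) (.node 1073 (.node 1071 (.node 1070 (.leaf 0x0) (.leaf 0x10001)) (.node 1072 (.leaf 0x4000002000202060305000a) (.leaf 0x0))) (.node 1075 (.node 1074 (.leaf 0x7070f0a0e0005) (.leaf 0x0))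 (.node 1076 (.leaf 0x0) (.leaf 0x4020000030602060503000a))))))

def argWS_72 : Store := (.node 1091 (.node 1084 (.node 1080 (.node 1078 (.leaf 0x306050005) (.node 1079 (.leaf 0x0) (.leaf 0xa0b090f0e0a0006))) (.node 1082 (.node 1081 (.leaf 0x0) (.leaf 0x438000432)) (.node 1083 (.leaf 0x6020605030005) (.leaf 0x0)))) (.node 1087 (.node 1085 (.leaf 0x0) (.node 1086 (.leaf 0x40001) (.leaf 0x2000006020206030008))) (.node 1089 (.node 1088 (.leaf 0x0) (.leaf 0x0)) (.node 1090 (.leaf 0x0) (.leaf 0x90d0a0003))))) (.node 1098 (.node 1094 (.node 1092 (.leaf 0x0) (.node 1093 (.leaf 0x604020603030006) (.leaf 0x0))) (.node 1096 (.node 1095 (.leaf 0x2020603050005) (.leaf 0x0)) (.node 1097 (.leaf 0xa0001) (.leaf 0x30001)))) (.node 1102 (.node 1100 (.node 1099 (.leaf 0x0) (.leaf 0x0)) (.node 1101 (.leaf 0xb0f0e0003) (.leaf 0x0))) (.node 1104 (.node 1103 (.leaf 0x0) (.leaf 0x20001)) (.node 1105 (.leaf 0x20604020603030007) (.leaf 0x0))))))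

def argWS_73 : Store := (.node 1077 argWS_71 argWS_72)

def argWS_74 : Store := (.node 1120 (.node 1113 (.node 1109 (.node 1107 (.leaf 0x0) (.node 1108 (.leaf 0x20602020603040007) (.leaf 0x30001))) (.node 1111 (.node 1110 (.leaf 0x0) (.leaf 0x0)) (.node 1112 (.leaf 0x0) (.leaf 0xf0c0a0003)))) (.node 1116 (.node 1114 (.leaf 0x20604020603030007) (.node 1115 (.leaf 0x0) (.leaf 0x6030503060005))) (.node 1118 (.node 1117 (.leaf 0x0) (.leaf 0x6020605030005)) (.node 1119 (.leaf 0x0) (.leaf 0x6020605030005))))) (.node 1127 (.node 1123 (.node 1121 (.leaf 0x0) (.node 1122 (.leaf 0x0) (.leaf 0x0))) (.node 1125 (.node 1124 (.leaf 0x30000020206030007) (.leaf 0x0)) (.node 1126 (.leaf 0xb090002) (.leaf 0x3010002)))) (.node 1131 (.node 1129 (.node 1128 (.leaf 0x0) (.leaf 0x0)) (.node 1130 (.leaf 0x3000002060402060303000a) (.leaf 0x0))) (.node 1133 (.node 1132 (.leaf 0x0) (.leaf 0x30604020006)) (.node 1134 (.leaf 0x6020206030005) (.leaf 0x0))))))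

def argWS_75 : Store := (.node 1150 (.node 1142 (.node 1138 (.node 1136 (.leaf 0x90f0e0003) (.node 1137 (.leaf 0x3010002) (.leaf 0x0))) (.node 1140 (.node 1139 (.leaf 0x0) (.leaf 0x0)) (.node 1141 (.leaf 0x0) (.leaf 0x2020603040005)))) (.node 1146 (.node 1144 (.node 1143 (.leaf 0x0) (.leaf 0x0)) (.node 1145 (.leaf 0x30604020004) (.leaf 0x30604020004))) (.node 1148 (.node 1147 (.leaf 0x0) (.leaf 0x30604020004)) (.node 1149 (.leaf 0x0) (.leaf 0x0))))) (.node 1157 (.node 1153 (.node 1151 (.leaf 0x6020206030005) (.node 1152 (.leaf 0x0) (.leaf 0x30604020004))) (.node 1155 (.node 1154 (.leaf 0x0) (.leaf 0x30604020004)) (.node 1156 (.leaf 0x0) (.leaf 0x6020206030005)))) (.node 1161 (.node 1159 (.node 1158 (.leaf 0x0) (.leaf 0x0)) (.node 1160 (.leaf 0x30604020004) (.leaf 0x0))) (.node 1163 (.node 1162 (.leaf 0x30604020004) (.leaf 0x0)) (.node 1164 (.leaf 0x2020603040005) (.leaf 0x0))))))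

def argWS_76 : Store := (.node 1135 argWS_74 argWS_75)

def argWS_77 : Store := (.node 1106 argWS_73 argWS_76)

def argWS_78 : Store := (.node 1048 argWS_70 argWS_77)

def argWS_79 : Store := (.node 1179 (.node 1172 (.node 1168 (.node 1166 (.leaf 0x2020603040005) (.node 1167 (.leaf 0x0) (.leaf 0x0))) (.node 1170 (.node 1169 (.leaf 0x2020603040005) (.leaf 0x0)) (.node 1171 (.leaf 0x604020603030006) (.leaf 0x0)))) (.node 1175 (.node 1173 (.leaf 0x30604020004) (.node 1174 (.leaf 0x0) (.leaf 0x2020603040005))) (.node 1177 (.node 1176 (.leaf 0x0) (.leaf 0x604020603030006)) (.node 1178 (.leaf 0x0) (.leaf 0x6050002))))) (.node 1186 (.node 1182 (.node 1180 (.leaf 0x0) (.node 1181 (.leaf 0x30604020004) (.leaf 0x0))) (.node 1184 (.node 1183 (.leaf 0x6020206030005) (.leaf 0x0)) (.node 1185 (.leaf 0x6050002) (.leaf 0x0)))) (.node 1190 (.node 1188 (.node 1187 (.leaf 0x2020603040005) (.leaf 0x0)) (.node 1189 (.leaf 0x6020206030005) (.leaf 0x0))) (.node 1192 (.node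 1191 (.leaf 0x30604020004) (.leaf 0x0)) (.node 1193 (.leaf 0x2020603040005) (.leaf 0x0))))))

def argWS_80 : Store := (.node 1208 (.node 1201 (.node 1197 (.node 1195 (.leaf 0x0) (.node 1196 (.leaf 0x2020603040005) (.leaf 0x0))) (.node 1199 (.node 1198 (.leaf 0x604020603030006) (.leaf 0x0)) (.node 1200 (.leaf 0x2020603040005) (.leaf 0x0)))) (.node 1204 (.node 1202 (.leaf 0x604020603030006) (.node 1203 (.leaf 0x0) (.leaf 0x604020603030006))) (.node 1206 (.node 1205 (.leaf 0x0) (.leaf 0x2020603040005)) (.node 1207 (.leaf 0x0) (.leaf 0x2020603040005))))) (.node 1215 (.node 1211 (.node 1209 (.leaf 0x0) (.node 1210 (.leaf 0x2020603040005) (.leaf 0x0))) (.node 1213 (.node 1212 (.leaf 0x604020603030006) (.leaf 0x0)) (.node 1214 (.leaf 0x604020603030006) (.leaf 0x0)))) (.node 1219 (.node 1217 (.node 1216 (.leaf 0x30604020004) (.leaf 0x0)) (.node 1218 (.leaf 0x20605030004) (.leaf 0x0))) (.node 1221 (.node 1220 (.leaf 0x604020603030006) (.leaf 0x0)) (.node 1222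 (.leaf 0x6050002) (.leaf 0x0))))))

def argWS_81 : Store := (.node 1194 argWS_79 argWS_80)

def argWS_82 : Store := (.node 1237 (.node 1230 (.node 1226 (.node 1224 (.leaf 0x2020603040005) (.node 1225 (.leaf 0x0) (.leaf 0x0))) (.node 1228 (.node 1227 (.leaf 0x20605030004) (.leaf 0x0)) (.node 1229 (.leaf 0x20605030004) (.leaf 0x0)))) (.node 1233 (.node 1231 (.leaf 0x0) (.node 1232 (.leaf 0x6050002) (.leaf 0x0))) (.node 1235 (.node 1234 (.leaf 0x20605030004) (.leaf 0x0)) (.node 1236 (.leaf 0x6050002) (.leaf 0x0))))) (.node 1244 (.node 1240 (.node 1238 (.leaf 0x2020603040005) (.node 1239 (.leaf 0x0) (.leaf 0x0))) (.node 1242 (.node 1241 (.leaf 0x6050002) (.leaf 0x0)) (.node 1243 (.leaf 0x2020603040005) (.leaf 0x0)))) (.node 1248 (.node 1246 (.node 1245 (.leaf 0x2020603040005) (.leaf 0x0)) (.node 1247 (.leaf 0x0) (.leaf 0x604020603030006))) (.node 1250 (.node 1249 (.leaf 0x0) (.leaf 0x306030503060006)) (.node 1251 (.leaf 0x0) (.leaf 0x306030503060006))))))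

def argWS_83 : Store := (.node 1266 (.node 1259 (.node 1255 (.node 1253 (.leaf 0x0) (.node 1254 (.leaf 0x306030503060006) (.leaf 0x0))) (.node 1257 (.node 1256 (.leaf 0x6050002) (.leaf 0x0)) (.node 1258 (.leaf 0x6050002) (.leaf 0x0)))) (.node 1262 (.node 1260 (.leaf 0x0) (.node 1261 (.leaf 0x30604020004) (.leaf 0x30604020004))) (.node 1264 (.node 1263 (.leaf 0x0) (.leaf 0x2020603040005)) (.node 1265 (.leaf 0x0) (.leaf 0x604020603030006))))) (.node 1273 (.node 1269 (.node 1267 (.leaf 0x0) (.node 1268 (.leaf 0x6050002) (.leaf 0x0))) (.node 1271 (.node 1270 (.leaf 0x2020603040005) (.leaf 0x0)) (.node 1272 (.leaf 0x0) (.leaf 0x40206030004)))) (.node 1277 (.node 1275 (.node 1274 (.leaf 0x1040204020603030008) (.leaf 0x0)) (.node 1276 (.leaf 0x80f0a0e0004) (.leaf 0x0))) (.node 1279 (.node 1278 (.leaf 0x9070d0003) (.leaf 0x4fd)) (.node 1280 (.leaf 0xb090f0d0c0005) (.leaf 0x0))))))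

def argWS_84 : Store := (.node 1252 argWS_82 argWS_83)

def argWS_85 : Store := (.node 1223 argWS_81 argWS_84)

def argWS_86 : Store := (.node 1295 (.node 1288 (.node 1284 (.node 1282 (.leaf 0x0) (.node 1283 (.leaf 0x40202020603040007) (.leaf 0x2010200040206030008))) (.node 1286 (.node 1285 (.leaf 0x0) (.leaf 0x0)) (.node 1287 (.leaf 0x0) (.leaf 0xb09080f0e0c0006)))) (.node 1291 (.node 1289 (.leaf 0x30604020004) (.node 1290 (.leaf 0x0) (.leaf 0x80a0e0003))) (.node 1293 (.node 1292 (.leaf 0x0) (.leaf 0x40200000004)) (.node 1294 (.leaf 0x600030103050006) (.leaf 0x0))))) (.node 1302 (.node 1298 (.node 1296 (.leaf 0xb080f0003) (.node 1297 (.leaf 0x0) (.leaf 0x510))) (.node 1300 (.node 1299 (.leaf 0x0) (.leaf 0x30604020004)) (.node 1301 (.leaf 0x4000301020603060402000a) (.leaf 0x0)))) (.node 1306 (.node 1304 (.node 1303 (.leaf 0x0) (.leaf 0x0)) (.node 1305 (.leaf 0x90f0e0003) (.leaf 0x0))) (.node 1308 (.node 1307 (.leaf 0x0) (.leaf 0x6020603030007)) (.node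 1309 (.leaf 0x0) (.leaf 0xf0e0002))))))

def argWS_87 : Store := (.node 1324 (.node 1317 (.node 1313 (.node 1311 (.leaf 0x30001) (.node 1312 (.leaf 0x0) (.leaf 0x0))) (.node 1315 (.node 1314 (.leaf 0x0) (.leaf 0x0)) (.node 1316 (.leaf 0x6050002) (.leaf 0x0)))) (.node 1320 (.node 1318 (.leaf 0x2020603050006) (.node 1319 (.leaf 0x20003040006) (.leaf 0x0))) (.node 1322 (.node 1321 (.leaf 0x90e0a0003) (.leaf 0x0)) (.node 1323 (.leaf 0x0) (.leaf 0x103050306030006))))) (.node 1331 (.node 1327 (.node 1325 (.leaf 0x2010200040603030008) (.node 1326 (.leaf 0x0) (.leaf 0xb0f0d0003))) (.node 1329 (.node 1328 (.leaf 0x0) (.leaf 0xa0001)) (.node 1330 (.leaf 0x53000052f) (.leaf 0x7070002)))) (.node 1335 (.node 1333 (.node 1332 (.leaf 0x0) (.leaf 0xc0001)) (.node 1334 (.leaf 0x20001) (.leaf 0x0))) (.node 1337 (.node 1336 (.leaf 0x0) (.leaf 0x0)) (.node 1338 (.leaf 0x50001) (.leaf 0x4030004020603060402000a))))))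

def argWS_88 : Store := (.node 1310 argWS_86 argWS_87)

def argWS_89 : Store := (.node 1353 (.node 1346 (.node 1342 (.node 1340 (.leaf 0x0) (.node 1341 (.leaf 0xb090f0d0004) (.leaf 0x0))) (.node 1344 (.node 1343 (.leaf 0x0) (.leaf 0x0)) (.node 1345 (.leaf 0x0) (.leaf 0x30001)))) (.node 1349 (.node 1347 (.leaf 0x20001) (.node 1348 (.leaf 0x0) (.leaf 0x0))) (.node 1351 (.node 1350 (.leaf 0xf0c0d0003) (.leaf 0x0)) (.node 1352 (.leaf 0x0) (.leaf 0x0))))) (.node 1360 (.node 1356 (.node 1354 (.leaf 0x602020603050008) (.node 1355 (.leaf 0x30602020603050007) (.leaf 0x0))) (.node 1358 (.node 1357 (.leaf 0x0) (.leaf 0x0)) (.node 1359 (.leaf 0x90f0e0003) (.leaf 0x6020603030007)))) (.node 1364 (.node 1362 (.node 1361 (.leaf 0x0) (.leaf 0xa0b0f0c0a0005)) (.node 1363 (.leaf 0x0) (.leaf 0x102000003060402060303000b))) (.node 1366 (.node 1365 (.leaf 0x500020004020603030009) (.leaf 0x0)) (.node 1367 (.leaf 0xb080f0d0c0005) (.leaf 0x0))))))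

def argWS_90 : Store := (.node 1383 (.node 1375 (.node 1371 (.node 1369 (.leaf 0xc090c0a0004) (.node 1370 (.leaf 0x558000557) (.leaf 0xb0f0d0c0004))) (.node 1373 (.node 1372 (.leaf 0x0) (.leaf 0x0)) (.node 1374 (.leaf 0x602020603050008) (.leaf 0x300000605030006)))) (.node 1379 (.node 1377 (.node 1376 (.leaf 0x0) (.leaf 0x0)) (.node 1378 (.leaf 0x0) (.leaf 0xa0b090003))) (.node 1381 (.node 1380 (.leaf 0x6020603030007) (.leaf 0x0)) (.node 1382 (.leaf 0x20605030004) (.leaf 0x0))))) (.node 1390 (.node 1386 (.node 1384 (.leaf 0x6040004) (.node 1385 (.leaf 0x0) (.leaf 0x90f0a0e0004))) (.node 1388 (.node 1387 (.leaf 0x90d0c0003) (.leaf 0x0)) (.node 1389 (.leaf 0x4020000030603060402000a) (.leaf 0x304000200040603050306000b)))) (.node 1394 (.node 1392 (.node 1391 (.leaf 0x0) (.leaf 0xc090e0a0004)) (.node 1393 (.leaf 0x0) (.leaf 0x57000056a))) (.node 1396 (.node 1395 (.leaf 0x0) (.leaf 0x30604020004)) (.node 1397 (.leaf 0x2000004020603030008) (.leaf 0x0))))))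

def argWS_91 : Store := (.node 1368 argWS_89 argWS_90)

def argWS_92 : Store := (.node 1339 argWS_88 argWS_91)

def argWS_93 : Store := (.node 1281 argWS_85 argWS_92)

def argWS_94 : Store := (.node 1165 argWS_78 argWS_93)

def argWS_95 : Store := (.node 1412 (.node 1405 (.node 1401 (.node 1399 (.leaf 0x0) (.node 1400 (.leaf 0x0) (.leaf 0x90d0a0003))) (.node 1403 (.node 1402 (.leaf 0x6020603030007) (.leaf 0x0)) (.node 1404 (.leaf 0x0) (.leaf 0x0)))) (.node 1408 (.node 1406 (.leaf 0x6040004) (.node 1407 (.leaf 0x0) (.leaf 0xb0001))) (.node 1410 (.node 1409 (.leaf 0x301030003) (.leaf 0x0)) (.node 1411 (.leaf 0x0) (.leaf 0x6040004))))) (.node 1419 (.node 1415 (.node 1413 (.leaf 0x0) (.node 1414 (.leaf 0xa0b0f0c0d0005) (.leaf 0x301030003))) (.node 1417 (.node 1416 (.leaf 0x0) (.leaf 0x0)) (.node 1418 (.leaf 0x0) (.leaf 0x0)))) (.node 1423 (.node 1421 (.node 1420 (.leaf 0x20605030004) (.leaf 0x0)) (.node 1422 (.leaf 0x0) (.leaf 0x603050306030008))) (.node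 1425 (.node 1424 (.leaf 0xb09080f0d0005) (.leaf 0x0)) (.node 1426 (.leaf 0x4020000030603060402000a) (.leaf 0x501020000030605030603000b))))))

def argWS_96 : Store := (.node 1441 (.node 1434 (.node 1430 (.node 1428 (.leaf 0x0) (.node 1429 (.leaf 0x80f0c0003) (.leaf 0x0))) (.node 1432 (.node 1431 (.leaf 0x0) (.leaf 0x40001)) (.node 1433 (.leaf 0x200020006020402060303000b) (.leaf 0x0)))) (.node 1437 (.node 1435 (.leaf 0xb0f0e0a0004) (.node 1436 (.leaf 0x0) (.leaf 0x59b000595))) (.node 1439 (.node 1438 (.leaf 0xb09070003) (.leaf 0x9080f0e0c0005)) (.node 1440 (.leaf 0x0) (.leaf 0x2020603040005))))) (.node 1448 (.node 1444 (.node 1442 (.leaf 0x30103060202060303000a) (.node 1443 (.leaf 0x0) (.leaf 0xa0b090f0e0c0006))) (.node 1446 (.node 1445 (.leaf 0x0) (.leaf 0x5a4)) (.node 1447 (.leaf 0x80c0d0003) (.leaf 0x0)))) (.node 1452 (.node 1450 (.node 1449 (.leaf 0x1020000030602060303000a) (.leaf 0x0)) (.node 1451 (.leaf 0xa0b0f0a0004) (.leaf 0x201020003))) (.node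 1454 (.node 1453 (.leaf 0x0) (.leaf 0x0)) (.node 1455 (.leaf 0xb070c0a0004) (.leaf 0x201020003))))))

def argWS_97 : Store := (.node 1427 argWS_95 argWS_96)

def argWS_98 : Store := (.node 1470 (.node 1463 (.node 1459 (.node 1457 (.leaf 0x0) (.node 1458 (.leaf 0x0) (.leaf 0x0))) (.node 1461 (.node 1460 (.leaf 0x0) (.leaf 0x20200000206020603060402000c)) (.node 1462 (.leaf 0x0) (.leaf 0x0)))) (.node 1466 (.node 1464 (.leaf 0x501020000030305030603000b) (.node 1465 (.leaf 0x0) (.leaf 0x10200000605030007))) (.node 1468 (.node 1467 (.leaf 0x1020106050306030008) (.leaf 0x0)) (.node 1469 (.leaf 0x90e0a0003) (.leaf 0x0))))) (.node 1477 (.node 1473 (.node 1471 (.leaf 0x0) (.node 1472 (.leaf 0x602020603050008) (.leaf 0x5010200020602060303000a))) (.node 1475 (.node 1474 (.leaf 0x0) (.leaf 0xb080e0003)) (.node 1476 (.leaf 0x0) (.leaf 0x5c3)))) (.node 1481 (.node 1479 (.node 1478 (.leaf 0x0) (.leaf 0x403000002060202060305000b)) (.node 1480 (.leaf 0x40003010206030603050306000c)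 (.leaf 0x0))) (.node 1483 (.node 1482 (.leaf 0x0) (.leaf 0x0)) (.node 1484 (.leaf 0x90e0c0003) (.leaf 0x0))))))

def argWS_99 : Store := (.node 1499 (.node 1492 (.node 1488 (.node 1486 (.leaf 0x20200000206020603060402000c) (.node 1487 (.leaf 0x0) (.leaf 0xb070c0a0004))) (.node 1490 (.node 1489 (.leaf 0x301020003) (.leaf 0x0)) (.node 1491 (.leaf 0x0) (.leaf 0x0)))) (.node 1495 (.node 1493 (.leaf 0x2000003060202060305000b) (.node 1494 (.leaf 0x401030104030402060303000b) (.leaf 0x0))) (.node 1497 (.node 1496 (.leaf 0xb0c0d0003) (.leaf 0x0)) (.node 1498 (.leaf 0x0) (.leaf 0x0))))) (.node 1506 (.node 1502 (.node 1500 (.leaf 0x300020003) (.node 1501 (.leaf 0x2000200030603030008) (.leaf 0x0))) (.node 1504 (.node 1503 (.leaf 0x0) (.leaf 0x201020002060202060303000b)) (.node 1505 (.leaf 0x301020003) (.leaf 0x0)))) (.node 1510 (.node 1508 (.node 1507 (.leaf 0x0) (.leaf 0x0)) (.node 1509 (.leaf 0x7070f0e0a0005) (.leaf 0x20200000206020603060402000c))) (.node 1512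 (.node 1511 (.leaf 0x0) (.leaf 0x501020000030305030603000b)) (.node 1513 (.leaf 0x0) (.leaf 0x0))))))

def argWS_100 : Store := (.node 1485 argWS_98 argWS_99)

def argWS_101 : Store := (.node 1456 argWS_97 argWS_100)

def argWS_102 : Store := (.node 1528 (.node 1521 (.node 1517 (.node 1515 (.leaf 0x604020603030006) (.node 1516 (.leaf 0x0) (.leaf 0x0))) (.node 1519 (.node 1518 (.leaf 0x6020206030005) (.leaf 0x6050002)) (.node 1520 (.leaf 0x0) (.leaf 0xf0e0002)))) (.node 1524 (.node 1522 (.leaf 0x3010002) (.node 1523 (.leaf 0x0) (.leaf 0x0))) (.node 1526 (.node 1525 (.leaf 0x0) (.leaf 0x0)) (.node 1527 (.leaf 0x6050002) (.leaf 0xb09080f0d0c0006))))) (.node 1535 (.node 1531 (.node 1529 (.leaf 0x0) (.node 1530 (.leaf 0x2020603040005) (.leaf 0x500000200060202060303000b))) (.node 1533 (.node 1532 (.leaf 0x0) (.leaf 0xb080d0a0004)) (.node 1534 (.leaf 0x0) (.leaf 0x5fd)))) (.node 1539 (.node 1537 (.node 1536 (.leaf 0xb090f0d0a0005) (.leaf 0x0)) (.node 1538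 (.leaf 0xf0e0002) (.leaf 0x301020003))) (.node 1541 (.node 1540 (.leaf 0x0) (.leaf 0x0)) (.node 1542 (.leaf 0xc090f0a0e0005) (.leaf 0x0))))))

def argWS_103 : Store := (.node 1557 (.node 1550 (.node 1546 (.node 1544 (.leaf 0x0) (.node 1545 (.leaf 0x300020003) (.leaf 0x0))) (.node 1548 (.node 1547 (.leaf 0x201020002060202060303000b) (.leaf 0x301020003)) (.node 1549 (.leaf 0x0) (.leaf 0x0)))) (.node 1553 (.node 1551 (.leaf 0x0) (.node 1552 (.leaf 0x7070f0e0a0005) (.leaf 0x0))) (.node 1555 (.node 1554 (.leaf 0x0) (.leaf 0x0)) (.node 1556 (.leaf 0x2020603040005) (.leaf 0x4020000020605030008))))) (.node 1564 (.node 1560 (.node 1558 (.leaf 0x0) (.node 1559 (.leaf 0xc090f0c0a0005) (.leaf 0x0))) (.node 1562 (.node 1561 (.leaf 0x0) (.leaf 0x306030503060006)) (.node 1563 (.leaf 0x301030106030603050306000b) (.leaf 0x0)))) (.node 1568 (.node 1566 (.node 1565 (.leaf 0xb070f0d0c0005) (.leaf 0x0)) (.node 1567 (.leaf 0x61d) (.leaf 0xc090e0003))) (.node 1570 (.node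 1569 (.leaf 0x0) (.leaf 0xb070f0a0e0005)) (.node 1571 (.leaf 0x9080f0e0c0005) (.leaf 0x0))))))

def argWS_104 : Store := (.node 1543 argWS_102 argWS_103)

def argWS_105 : Store := (.node 1586 (.node 1579 (.node 1575 (.node 1573 (.leaf 0x6020603030007) (.node 1574 (.leaf 0x10403040004) (.leaf 0x0))) (.node 1577 (.node 1576 (.leaf 0xb09080e0a0005) (.leaf 0x0)) (.node 1578 (.leaf 0x0) (.leaf 0x306030503060006)))) (.node 1582 (.node 1580 (.leaf 0x3000306020202060305000a) (.node 1581 (.leaf 0x0) (.leaf 0xb070f0a0e0005))) (.node 1584 (.node 1583 (.leaf 0x0) (.leaf 0x62e000628)) (.node 1585 (.leaf 0xb090f0a0004) (.leaf 0x0))))) (.node 1593 (.node 1589 (.node 1587 (.leaf 0x0) (.node 1588 (.leaf 0x501020000030305030603000b) (.leaf 0x40200020603030007))) (.node 1591 (.node 1590 (.leaf 0x0) (.leaf 0x0)) (.node 1592 (.leaf 0x0) (.leaf 0xa0b090f0a0e0006)))) (.node 1597 (.node 1595 (.node 1594 (.leaf 0x20200000206020603060402000c) (.leaf 0x0)) (.node 1596 (.leaf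 0x70f0e0a0004) (.leaf 0x30001))) (.node 1599 (.node 1598 (.leaf 0x0) (.leaf 0x0)) (.node 1600 (.leaf 0x0) (.leaf 0x0))))))

def argWS_106 : Store := (.node 1616 (.node 1608 (.node 1604 (.node 1602 (.leaf 0x300030303050306030009) (.node 1603 (.leaf 0xc090002) (.leaf 0x0))) (.node 1606 (.node 1605 (.leaf 0x604020603030006) (.leaf 0x40102000602020402060303000c)) (.node 1607 (.leaf 0x0) (.leaf 0xb0001)))) (.node 1612 (.node 1610 (.node 1609 (.leaf 0x0) (.leaf 0x648)) (.node 1611 (.leaf 0xb070f0d0a0005) (.leaf 0x0))) (.node 1614 (.node 1613 (.leaf 0x0) (.leaf 0x6050002)) (.node 1615 (.leaf 0x600020003060402060303000b) (.leaf 0x0))))) (.node 1623 (.node 1619 (.node 1617 (.leaf 0x0) (.node 1618 (.leaf 0x0) (.leaf 0x80f0a0003))) (.node 1621 (.node 1620 (.leaf 0x9080f0c0d0005) (.leaf 0x0)) (.node 1622 (.leaf 0x2000003060202060305000b) (.leaf 0x2000206020202060304000a)))) (.node 1627 (.node 1625 (.node 1624 (.leaf 0x0) (.leaf 0xb09070e0a0005)) (.node 1626 (.leaf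 0x0) (.leaf 0x0))) (.node 1629 (.node 1628 (.leaf 0x602020603040007) (.leaf 0x20002010306030007)) (.node 1630 (.leaf 0x0) (.leaf 0x7070a0003))))))

def argWS_107 : Store := (.node 1601 argWS_105 argWS_106)

def argWS_108 : Store := (.node 1572 argWS_104 argWS_107)

def argWS_109 : Store := (.node 1514 argWS_101 argWS_108)

def argWS_110 : Store := (.node 1645 (.node 1638 (.node 1634 (.node 1632 (.leaf 0x0) (.node 1633 (.leaf 0x65f000659) (.leaf 0x0))) (.node 1636 (.node 1635 (.leaf 0x40000020003060007) (.leaf 0x102000602020605030009)) (.node 1637 (.leaf 0x0) (.leaf 0x0)))) (.node 1641 (.node 1639 (.leaf 0x0) (.node 1640 (.leaf 0xb080c0a0004) (.leaf 0x0))) (.node 1643 (.node 1642 (.leaf 0x70f0d0a0004) (.leaf 0x0)) (.node 1644 (.leaf 0x201020002060202060303000b) (.leaf 0x600000200030603060402000b))))) (.node 1652 (.node 1648 (.node 1646 (.leaf 0x0) (.node 1647 (.leaf 0xb080002) (.leaf 0x0))) (.node 1650 (.node 1649 (.leaf 0x0) (.leaf 0x602020603050008))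 (.node 1651 (.leaf 0x3060002000603060402000a) (.leaf 0x0)))) (.node 1656 (.node 1654 (.node 1653 (.leaf 0xa0b090003) (.leaf 0x0)) (.node 1655 (.leaf 0x675) (.leaf 0xb090f0c0d0005))) (.node 1658 (.node 1657 (.leaf 0x9070a0003) (.leaf 0x0)) (.node 1659 (.leaf 0x6020002) (.leaf 0x40003010602020202060305000c))))))

def argWS_111 : Store := (.node 1674 (.node 1667 (.node 1663 (.node 1661 (.leaf 0x0) (.node 1662 (.leaf 0x70f0a0e0004) (.leaf 0x0))) (.node 1665 (.node 1664 (.leaf 0x0) (.leaf 0x2000003060202060305000b)) (.node 1666 (.leaf 0x2000206020202060304000c) (.leaf 0x0)))) (.node 1670 (.node 1668 (.leaf 0xb09080e0a0005) (.node 1669 (.leaf 0x0) (.leaf 0x68400067e))) (.node 1672 (.node 1671 (.leaf 0x0) (.leaf 0x1060002)) (.node 1673 (.leaf 0x600030102060202020603000b) (.leaf 0x0))))) (.node 1681 (.node 1677 (.node 1675 (.leaf 0x0) (.node 1676 (.leaf 0x0) (.leaf 0xb090a0003))) (.node 1679 (.node 1678 (.leaf 0x0) (.leaf 0x20200000206020603060402000c)) (.node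 1680 (.leaf 0x0) (.leaf 0xb0f0d0003)))) (.node 1685 (.node 1683 (.node 1682 (.leaf 0x3030002) (.leaf 0x0)) (.node 1684 (.leaf 0x0) (.leaf 0x0))) (.node 1687 (.node 1686 (.leaf 0x30604020004) (.leaf 0x20004020603030007)) (.node 1688 (.leaf 0x0) (.leaf 0xa0e0002))))))

def argWS_112 : Store := (.node 1660 argWS_110 argWS_111)

def argWS_113 : Store := (.node 1703 (.node 1696 (.node 1692 (.node 1690 (.leaf 0x0) (.node 1691 (.leaf 0x0) (.leaf 0x0))) (.node 1694 (.node 1693 (.leaf 0x0) (.leaf 0x0)) (.node 1695 (.leaf 0x4030000020005) (.leaf 0x201030003)))) (.node 1699 (.node 1697 (.leaf 0x0) (.node 1698 (.leaf 0x0) (.leaf 0x501020000030305030603000b))) (.node 1701 (.node 1700 (.leaf 0x0) (.leaf 0x0)) (.node 1702 (.leaf 0x20003050005) (.leaf 0x6000300020603040008))))) (.node 1710 (.node 1706 (.node 1704 (.leaf 0x0) (.node 1705 (.leaf 0x0) (.leaf 0x0))) (.node 1708 (.node 1707 (.leaf 0x80001) (.leaf 0x0)) (.node 1709 (.leaf 0x20200000206020603060402000c)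 (.leaf 0x0)))) (.node 1714 (.node 1712 (.node 1711 (.leaf 0x0) (.leaf 0x0)) (.node 1713 (.leaf 0x2000003060202060503000b) (.leaf 0x0))) (.node 1716 (.node 1715 (.leaf 0x200040605030006) (.leaf 0x3060002000403030603050306000d)) (.node 1717 (.leaf 0x0) (.leaf 0x0))))))

def argWS_114 : Store := (.node 1732 (.node 1725 (.node 1721 (.node 1719 (.leaf 0x0) (.node 1720 (.leaf 0xa0b0f0e0c0005) (.leaf 0x0))) (.node 1723 (.node 1722 (.leaf 0x200040605030006) (.leaf 0x306000200030602040009)) (.node 1724 (.leaf 0x0) (.leaf 0xc090d0a0004)))) (.node 1728 (.node 1726 (.leaf 0x0) (.node 1727 (.leaf 0x0) (.leaf 0x501020000030305030603000b))) (.node 1730 (.node 1729 (.leaf 0x30003000303040007) (.leaf 0x0)) (.node 1731 (.leaf 0xb0f0d0003) (.leaf 0x0))))) (.node 1739 (.node 1735 (.node 1733 (.leaf 0x6c3) (.node 1734 (.leaf 0x0) (.leaf 0x200040605030006))) (.node 1737 (.node 1736 (.leaf 0x3060002000403050008) (.leaf 0x0)) (.node 1738 (.leaf 0x0) (.leaf 0x0)))) (.node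 1743 (.node 1741 (.node 1740 (.leaf 0xb0f0c0d0004) (.leaf 0x9070c0d0004)) (.node 1742 (.leaf 0x0) (.leaf 0x6020206030005))) (.node 1745 (.node 1744 (.leaf 0x500000201020206030009) (.leaf 0x0)) (.node 1746 (.leaf 0xb090f0d0c0005) (.leaf 0x0))))))

def argWS_115 : Store := (.node 1718 argWS_113 argWS_114)

def argWS_116 : Store := (.node 1689 argWS_112 argWS_115)

def argWS_117 : Store := (.node 1761 (.node 1754 (.node 1750 (.node 1748 (.leaf 0x2000003060202060305000a) (.node 1749 (.leaf 0x0) (.leaf 0x0))) (.node 1752 (.node 1751 (.leaf 0x2020603040007) (.leaf 0x202000006040006)) (.node 1753 (.leaf 0x0) (.leaf 0xc0d0002)))) (.node 1757 (.node 1755 (.leaf 0x0) (.node 1756 (.leaf 0x6da0006d4) (.leaf 0xb09080c0004))) (.node 1759 (.node 1758 (.leaf 0x0) (.leaf 0x0)) (.node 1760 (.leaf 0x6020206030005) (.leaf 0x6020002060305030603000a))))) (.node 1768 (.node 1764 (.node 1762 (.leaf 0x0) (.node 1763 (.leaf 0xf0a0e0003) (.leaf 0x0))) (.node 1766 (.node 1765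 (.leaf 0x0) (.leaf 0x0)) (.node 1767 (.leaf 0x4030002) (.leaf 0xb090d0c0004)))) (.node 1772 (.node 1770 (.node 1769 (.leaf 0x20001) (.leaf 0x0)) (.node 1771 (.leaf 0x0) (.leaf 0x20200000206040007))) (.node 1774 (.node 1773 (.leaf 0x0) (.leaf 0x0)) (.node 1775 (.leaf 0x20200000206040007) (.leaf 0x3050002))))))

def argWS_118 : Store := (.node 1790 (.node 1783 (.node 1779 (.node 1777 (.leaf 0x0) (.node 1778 (.leaf 0x0) (.leaf 0x0))) (.node 1781 (.node 1780 (.leaf 0xa0b090f0004) (.leaf 0x0)) (.node 1782 (.leaf 0x0) (.leaf 0x10300060004)))) (.node 1786 (.node 1784 (.leaf 0x60003010004) (.node 1785 (.leaf 0x0) (.leaf 0x0))) (.node 1788 (.node 1787 (.leaf 0x60003010004) (.leaf 0x201030003)) (.node 1789 (.leaf 0x0) (.leaf 0x0))))) (.node 1797 (.node 1793 (.node 1791 (.leaf 0x0) (.node 1792 (.leaf 0xa0b090f0c0005) (.leaf 0x0))) (.node 1795 (.node 1794 (.leaf 0x603050306030008) (.leaf 0x102000603030006)) (.node 1796 (.leaf 0x0) (.leaf 0xb080f0c0a0005)))) (.node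 1801 (.node 1799 (.node 1798 (.leaf 0x0) (.leaf 0x0)) (.node 1800 (.leaf 0x30604020004) (.leaf 0x30002020206030007))) (.node 1803 (.node 1802 (.leaf 0x0) (.leaf 0xb070f0c0004)) (.node 1804 (.leaf 0x0) (.leaf 0x0))))))

def argWS_119 : Store := (.node 1776 argWS_117 argWS_118)

def argWS_120 : Store := (.node 1819 (.node 1812 (.node 1808 (.node 1806 (.leaf 0x2020603040005) (.node 1807 (.leaf 0x3030102060202060304000a) (.leaf 0x0))) (.node 1810 (.node 1809 (.leaf 0xb09080f0c0005) (.leaf 0x0)) (.node 1811 (.leaf 0x71100070b) (.leaf 0x60003010004)))) (.node 1815 (.node 1813 (.leaf 0x0) (.node 1814 (.leaf 0x6000301020605030008) (.leaf 0x0))) (.node 1817 (.node 1816 (.leaf 0x0) (.leaf 0x600030006040006)) (.node 1818 (.leaf 0x60002000306020603060402000c) (.leaf 0x0))))) (.node 1826 (.node 1822 (.node 1820 (.leaf 0x0) (.node 1821 (.leaf 0x0) (.leaf 0xb09080f0e0c0006))) (.node 1824 (.node 1823 (.leaf 0x0) (.leaf 0x0)) (.node 1825 (.leaf 0x30001) (.leaf 0x301030003))))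 (.node 1830 (.node 1828 (.node 1827 (.leaf 0x301020003) (.leaf 0x0)) (.node 1829 (.leaf 0x30001) (.leaf 0x3010002))) (.node 1832 (.node 1831 (.leaf 0x2010002) (.leaf 0x201030003)) (.node 1833 (.leaf 0x0) (.leaf 0x30001))))))

def argWS_121 : Store := (.node 1849 (.node 1841 (.node 1837 (.node 1835 (.leaf 0x20001) (.node 1836 (.leaf 0x301030003) (.leaf 0x301020003))) (.node 1839 (.node 1838 (.leaf 0x201030003) (.leaf 0x201020003)) (.node 1840 (.leaf 0x0) (.leaf 0x3010002)))) (.node 1845 (.node 1843 (.node 1842 (.leaf 0x0) (.leaf 0x30001)) (.node 1844 (.leaf 0x20001) (.leaf 0x3010002))) (.node 1847 (.node 1846 (.leaf 0x0) (.leaf 0x2010002)) (.node 1848 (.leaf 0x301030003) (.leaf 0x301020003))))) (.node 1856 (.node 1852 (.node 1850 (.leaf 0x201030003) (.node 1851 (.leaf 0x30103040004) (.leaf 0x0))) (.node 1854 (.node 1853 (.leaf 0x30001) (.leaf 0x20001)) (.node 1855 (.leaf 0x2010002) (.leaf 0x301020003)))) (.node 1860 (.node 1858 (.node 1857 (.leaf 0x0)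 (.leaf 0x30001)) (.node 1859 (.leaf 0x3030002) (.leaf 0x30102050004))) (.node 1862 (.node 1861 (.leaf 0x0) (.leaf 0x30001)) (.node 1863 (.leaf 0x20001) (.leaf 0x301050003))))))

def argWS_122 : Store := (.node 1834 argWS_120 argWS_121)

def argWS_123 : Store := (.node 1805 argWS_119 argWS_122)

def argWS_124 : Store := (.node 1747 argWS_116 argWS_123)

def argWS_125 : Store := (.node 1631 argWS_109 argWS_124)

def argWS_126 : Store := (.node 1398 argWS_94 argWS_125)

def argWS : Store := (.node 932 argWS_63 argWS_126)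

def nodeSrcS : Store := (.leaf 0x50005000300030003000200020001000100000000)

noncomputable def nodeSrc : Nat → Nat := get16 nodeSrcS

def nodeWS : Store := (.node 5 (.node 2 (.node 1 (.leaf 0x0) (.leaf 0x0)) (.node 3 (.leaf 0x30001) (.node 4 (.leaf 0x301030003) (.leaf 0x30001)))) (.node 8 (.node 6 (.leaf 0x3010002) (.node 7 (.leaf 0x30001) (.leaf 0x301030003))) (.node 9 (.leaf 0x201020003) (.node 10 (.leaf 0x3010002) (.leaf 0x301030003)))))

def nodeTS : Store := (.leaf 0x10001000100010001000100010001000100010000)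

noncomputable def nodeT : Nat → Nat := get16 nodeTS


end Cfsg.Agent.HSRecog.Cert7
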